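import Groth.Agent.Lib.AbsClosure4.Scheme
import Groth.Agent.Lib.QSect20.Component
import Groth.Agent.Lib.FinDom4.Main
import Groth.Agent.Lib.EGA43Top.OpenCriterion

/-!
Universally open surjective morphisms have sections locally on an integral surjective cover of the base.
-/

set_option autoImplicit false
set_option linter.style.haveILetI false
set_option backward.isDefEq.respectTransparency.types false

universe u

open CategoryTheory CategoryTheory.Limits AlgebraicGeometry TensorProduct Topology Groth.Agent.FibDim14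

namespace Groth.Agent.UnivOpenSec5

/-- A quasi-finite algebra over an absolutely integrally closed local domain with a prime over zero below a
prime over the maximal ideal has a section. -/
theorem exists_section {D : Type u} {C : Type u} [CommRing D] [IsLocalRing D] [IsDomain D] [CommRing C]
    [Algebra D C] [Algebra.FiniteType D C] [Algebra.QuasiFinite D C]
    (h : AbsClosure4.MonicRoots D) (q : Ideal C) [q.IsPrime] [hq : q.LiesOver (IsLocalRing.maximalIdeal D)]
    (q₀ : Ideal C) [q₀.IsPrime] (hq₀le : q₀ ≤ q) (hq₀ : q₀.comap (algebraMap D C) = ⊥) :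
    Nonempty (C →ₐ[D] D) := by
  have hinj : Function.Injective (algebraMap D (C ⧸ q₀)) := by
    rw [injective_iff_map_eq_zero]
    intro d hd
    rw [IsScalarTower.algebraMap_apply D C (C ⧸ q₀), Ideal.Quotient.algebraMap_eq,
      Ideal.Quotient.eq_zero_iff_mem] at hd
    have : d ∈ q₀.comap (algebraMap D C) := hd
    rwa [hq₀, Ideal.mem_bot] at this
  obtain ⟨r, hrq, hri, hall⟩ := (Algebra.zariskisMainProperty_iff (R := D) (p := q)).1
    (Algebra.ZariskisMainProperty.of_finiteType q)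
  obtain ⟨d, hd⟩ := h.mem_range_of_isIntegral (hri.map (IsScalarTower.toAlgHom D C (C ⧸ q₀)))
  have hdunit : IsUnit d := by
    refine IsLocalRing.notMem_maximalIdeal.1 fun hdm => hrq ?_
    have h1 : algebraMap D C d ∈ q := by
      rw [hq.over] at hdm; exact hdm
    have h2 : algebraMap D C d - r ∈ q₀ := by
      rw [← Ideal.Quotient.eq_zero_iff_mem, map_sub, sub_eq_zero]
      exact hd
    simpa using q.sub_mem h1 (hq₀le h2)
  have hsurj : Function.Surjective (algebraMap D (C ⧸ q₀)) := by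
    intro x
    obtain ⟨x, rfl⟩ := Ideal.Quotient.mk_surjective x
    obtain ⟨m, hm⟩ := hall x
    obtain ⟨e, he⟩ := h.mem_range_of_isIntegral (hm.map (IsScalarTower.toAlgHom D C (C ⧸ q₀)))
    obtain ⟨w, hw⟩ := hdunit.pow m
    refine ⟨↑w⁻¹ * e, ?_⟩
    rw [map_mul, he]
    change algebraMap D (C ⧸ q₀) ↑w⁻¹ * Ideal.Quotient.mk q₀ (r ^ m * x) = _
    rw [map_mul, map_pow, show Ideal.Quotient.mk q₀ r = algebraMap D (C ⧸ q₀) d from hd.symm,
      ← map_pow, ← hw, ← mul_assoc, ← map_mul, Units.inv_mul, map_one, one_mul]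
  exact ⟨(AlgEquiv.ofBijective (Algebra.ofId D (C ⧸ q₀)) ⟨hinj, hsurj⟩).symm.toAlgHom.comp
    (IsScalarTower.toAlgHom D C (C ⧸ q₀))⟩

/-- Through every point of the base: a quasi-finite universally open piece of the source. -/
theorem exists_quasiFinite_piece {X S : Scheme.{u}} (f : X ⟶ S) [LocallyOfFinitePresentation f]
    [UniversallyOpen f] [Surjective f] (s : S) :
    ∃ (Z : Scheme.{u}) (σ : Z ⟶ S) (r : Z ⟶ X) (q : Z), LocallyOfFinitePresentation σ ∧ LocallyQuasiFinite σ ∧
      r ≫ f = σ ∧ σ q = s ∧ EGA43.IsUnivOpenAt σ q := by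
  obtain ⟨x₀, hx₀⟩ := f.surjective s
  haveI : Nonempty (f.fiber s) := by
    obtain ⟨v, -⟩ : x₀ ∈ Set.range (f.fiberι s) := (f.range_fiberι s).ge hx₀
    exact ⟨v⟩
  haveI : LocallyOfFiniteType (f.fiberToSpecResidueField s) := MorphismProperty.pullback_snd _ _ inferInstance
  haveI : JacobsonSpace ↥(Spec (S.residueField s)) :=
    inferInstanceAs (JacobsonSpace (PrimeSpectrum (S.residueField s)))
  haveI : JacobsonSpace (f.fiber s) := LocallyOfFiniteType.jacobsonSpace (f.fiberToSpecResidueField s)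
  obtain ⟨v, -, hv⟩ := nonempty_inter_closedPoints (X := f.fiber s) (Z := Set.univ) Set.univ_nonempty
    isOpen_univ.isLocallyClosed
  let x := f.fiberι s v
  have hxs : f x = s := (f.range_fiberι s).le ⟨v, rfl⟩
  have hcl : ∀ x', f x' = f x → x ⤳ x' → x' = x := fun x' he hsp => by
    obtain ⟨v', rfl⟩ : x' ∈ Set.range (f.fiberι s) := (f.range_fiberι s).ge (he.trans hxs)
    have h1 : v ⤳ v' := (f.fiberι s).isEmbedding.isInducing.specializes_iff.1 hsp
    rw [(Set.mem_singleton_iff.1 (h1.mem_closed hv rfl) : v' = v)]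
  obtain ⟨z, hzx, hzf, hd, hmax⟩ := exists_fibreDimAt_eq f x
  obtain ⟨z₁, hz₁z, hz₁f, hz₁max, -⟩ := FibGen4.exists_isMaxFib f z
  have hz₁d : FlatMor.fibreDimAt f x = (rd f z₁ : WithBot ℕ∞) := by
    have h1 : rd f z₁ ≤ rd f z := hmax _ (hz₁z.trans hzx) (hz₁f.trans hzf)
    have h2 : rd f z ≤ rd f z₁ := by
      by_cases hne : z₁ = z
      · rw [hne]
      · exact (rd_lt_of_specializes f hz₁z hne hz₁f).le
    rw [hd, le_antisymm h1 h2]
  obtain ⟨W, g, hxW, hg, hlqf, hgx⟩ := QSect20.exists_pointed_chart f hcl hz₁d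
  haveI := hlqf
  let n := rd f z₁
  have hzW : z₁ ∈ W := (hz₁z.trans hzx).mem_open W.2 hxW
  let fW := W.ι ≫ f
  haveI : LocallyOfFinitePresentation fW := inferInstance
  have hopenW : EGA43.IsUnivOpenAt fW ⟨z₁, hzW⟩ :=
    Unibr4.isUnivOpenAt_of_universallyOpen fW _
  have hmaxW : IsMaxFib fW ⟨z₁, hzW⟩ := fun y hy he =>
    Subtype.ext (hz₁max _ (hy.map W.ι.continuous) he)
  have hrdW : rd fW ⟨z₁, hzW⟩ = n := by
    rw [rd_comp, rd_of_surjectiveOnStalks W.ι, add_zero]
    rfl
  have hgopen : EGA43.IsUnivOpenAt g ⟨x, hxW⟩ :=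
    QSect20.isUnivOpenAt_of_toAffineSpace fW g hg (z := ⟨z₁, hzW⟩)
      ((subtype_specializes_iff _ _).2 (hz₁z.trans hzx)) (hz₁f.trans hzf) hmaxW hrdW hopenW
  haveI : LocallyOfFinitePresentation g :=
    haveI : LocallyOfFinitePresentation (g ≫ (𝔸(ULift.{u} (Fin n); S) ↘ S)) := hg ▸ inferInstance
    SchBasic.locallyOfFinitePresentation_of_comp g (𝔸(ULift.{u} (Fin n); S) ↘ S)
  obtain ⟨q, hq1, hq2⟩ := Scheme.Pullback.exists_preimage_pullback (f := g) (g := QSect20.zeroSec S n)
    (⟨x, hxW⟩ : (W : Scheme.{u})) (f x) hgx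
  refine ⟨_, pullback.snd g (QSect20.zeroSec S n), pullback.fst g (QSect20.zeroSec S n) ≫ W.ι, q,
    MorphismProperty.pullback_snd _ _ inferInstance, MorphismProperty.pullback_snd _ _ inferInstance, ?_,
    hq2.trans hxs, EGA43Top.isUnivOpenAt_baseChange (IsPullback.of_hasPullback g _) (hq1.symm ▸ hgopen)⟩
  rw [Category.assoc, ← hg, ← Category.assoc, pullback.condition, Category.assoc, QSect20.zeroSec_over,
    Category.comp_id]

theorem exists_lift_chart {S Z X : Scheme.{u}} {R : CommRingCat.{u}} (k : Spec R ⟶ S) (σ : Z ⟶ S)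
    [LocallyOfFinitePresentation σ] [LocallyQuasiFinite σ] (g₂ : X ⟶ S) (r₀ : Z ⟶ X) (hr₀ : r₀ ≫ g₂ = σ)
    (hroots : Groth.Agent.AbsClosure4.MonicRoots R)
    (hdom : ∀ P : Ideal R, ∀ [P.IsPrime], IsDomain (Localization.AtPrime P))
    (P : Spec R) (q₁ : Z) (hq₁ : σ q₁ = k P) (hopen : EGA43.IsUnivOpenAt σ q₁) :
    ∃ (R' : CommRingCat.{u}) (j : Spec R' ⟶ Spec R) (r : Spec R' ⟶ X),
      IsOpenImmersion j ∧ P ∈ Set.range j ∧ r ≫ g₂ = j ≫ k := by
  haveI := hdom P.asIdeal
  let D := Localization.AtPrime P.asIdeal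
  obtain ⟨z, hz, hz'⟩ := Scheme.Pullback.exists_preimage_pullback (f := k) (g := σ) P q₁ hq₁.symm
  have hzopen : EGA43.IsUnivOpenAt (pullback.fst k σ) z :=
    EGA43Top.isUnivOpenAt_baseChange (IsPullback.of_hasPullback k σ).flip (hz'.symm ▸ hopen)
  let p0 : Spec R := (⟨RingHom.ker (algebraMap R D), RingHom.ker_isPrime _⟩ : PrimeSpectrum R)
  have hp0 : p0 ⤳ pullback.fst k σ z := by
    rw [hz]
    refine (PrimeSpectrum.le_iff_specializes (⟨RingHom.ker (algebraMap R D), RingHom.ker_isPrime _⟩ : PrimeSpectrum R) P).1 ?_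
    intro a ha
    by_contra hP
    exact (IsLocalization.map_units D (⟨a, hP⟩ : P.asIdeal.primeCompl)).ne_zero (RingHom.mem_ker.1 ha)
  obtain ⟨z₁, hz₁, hz₁'⟩ := Scheme.Pullback.exists_preimage_pullback (f := pullback.fst k σ) (g := 𝟙 (Spec R))
    z (pullback.fst k σ z) rfl
  obtain ⟨t₁, ht₁, ht₁p⟩ := EGA43Top.liftsAt_of_isOpenAt (hzopen _ (𝟙 _) z₁ hz₁) p0 (hz₁'.symm ▸ hp0)
  have htz : pullback.fst (pullback.fst k σ) (𝟙 (Spec R)) t₁ ⤳ z :=
    hz₁ ▸ ht₁.map (pullback.fst (pullback.fst k σ) (𝟙 (Spec R))).continuous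
  have htp : pullback.fst k σ (pullback.fst (pullback.fst k σ) (𝟙 (Spec R)) t₁) = p0 := by
    rw [← Scheme.Hom.comp_apply, pullback.condition, Category.comp_id]
    exact ht₁p
  generalize pullback.fst (pullback.fst k σ) (𝟙 (Spec R)) t₁ = t at htz htp
  obtain ⟨A, hA, hzA, -⟩ := exists_isAffineOpen_mem_and_subset (X := pullback k σ) (x := z) (U := ⊤) trivial
  have htA : t ∈ A := htz.mem_open A.2 hzA
  obtain ⟨φ, hφ⟩ := Spec.map_surjective (hA.fromSpec ≫ pullback.fst k σ)
  have hfp : φ.hom.FinitePresentation :=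
    (HasRingHomProperty.Spec_iff (P := @LocallyOfFinitePresentation)).1 (hφ ▸ inferInstance)
  have hqf : φ.hom.QuasiFinite :=
    (HasRingHomProperty.Spec_iff (P := @LocallyQuasiFinite)).1 (hφ ▸ inferInstance)
  algebraize [φ.hom]
  have hqP : Spec.map φ (hA.primeIdealOf ⟨z, hzA⟩) = P := by
    rw [hφ, Scheme.Hom.comp_apply, hA.fromSpec_primeIdealOf, hz]
  have htP : Spec.map φ (hA.primeIdealOf ⟨t, htA⟩) = p0 := by
    rw [hφ, Scheme.Hom.comp_apply, hA.fromSpec_primeIdealOf, htp]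
  let B := Γ(pullback k σ, A)
  let q := (hA.primeIdealOf ⟨z, hzA⟩).asIdeal
  let qt := (hA.primeIdealOf ⟨t, htA⟩).asIdeal
  have hle : qt ≤ q := by
    refine (PrimeSpectrum.le_iff_specializes (hA.primeIdealOf ⟨t, htA⟩) (hA.primeIdealOf ⟨z, hzA⟩)).2 ?_
    refine hA.fromSpec.isEmbedding.isInducing.specializes_iff.1 ?_
    rw [hA.fromSpec_primeIdealOf, hA.fromSpec_primeIdealOf]
    exact htz
  have hmem : ∀ a : R, algebraMap R B a ∈ q ↔ a ∈ P.asIdeal := fun a => by
    rw [← hqP]; rfl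
  let L := Localization.AtPrime q
  have hu : ∀ y : P.asIdeal.primeCompl, IsUnit (algebraMap R L y) := fun y => by
    rw [IsScalarTower.algebraMap_apply R B L]
    exact IsLocalization.map_units L (⟨algebraMap R B y, fun hy => y.2 ((hmem y).1 hy)⟩ : q.primeCompl)
  let fD : D →ₐ[R] L :=
    IsLocalization.liftAlgHom (M := P.asIdeal.primeCompl) (f := Algebra.ofId R _) hu
  let fB : B →ₐ[R] L := IsScalarTower.toAlgHom R _ _
  let ψ := Algebra.TensorProduct.lift fD fB fun _ _ => Commute.all _ _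
  have hψ : ∀ a : R, ψ (algebraMap D (D ⊗[R] B) (algebraMap R D a)) = algebraMap B L (algebraMap R B a) := by
    intro a
    rw [Algebra.TensorProduct.algebraMap_apply, Algebra.TensorProduct.lift_tmul, map_one, mul_one]
    change fD (algebraMap R D a) = _
    rw [fD.commutes, IsScalarTower.algebraMap_apply R B L]
  let q' : Ideal (D ⊗[R] B) := (IsLocalRing.maximalIdeal L).comap ψ.toRingHom
  have : q'.LiesOver (IsLocalRing.maximalIdeal D) := by
    refine ⟨((IsLocalRing.maximalIdeal.isMaximal D).eq_of_le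
      (inferInstance : ((q'.comap (algebraMap D (D ⊗[R] B)))).IsPrime).ne_top ?_)⟩
    rw [← Localization.AtPrime.map_eq_maximalIdeal, Ideal.map_le_iff_le_comap]
    intro a ha
    show ψ (algebraMap D (D ⊗[R] B) (algebraMap R D a)) ∈ IsLocalRing.maximalIdeal L
    rw [hψ]
    exact (IsLocalization.AtPrime.to_map_mem_maximal_iff L q _).2 ((hmem a).2 ha)
  have hdisj : Disjoint (q.primeCompl : Set B) qt := Set.disjoint_left.2 fun a ha hat => ha (hle hat)
  haveI : (qt.map (algebraMap B L)).IsPrime :=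
    IsLocalization.isPrime_of_isPrime_disjoint q.primeCompl L qt inferInstance hdisj
  let q₀ : Ideal (D ⊗[R] B) := (qt.map (algebraMap B L)).comap ψ.toRingHom
  have hq₀le : q₀ ≤ q' := Ideal.comap_mono (IsLocalRing.le_maximalIdeal (Ideal.IsPrime.ne_top ‹_›))
  have hq₀ : q₀.comap (algebraMap D (D ⊗[R] B)) = ⊥ := by
    rw [← IsLocalization.map_comap P.asIdeal.primeCompl D (q₀.comap (algebraMap D (D ⊗[R] B))), eq_bot_iff,
      Ideal.map_le_iff_le_comap]
    intro a ha
    have h1 : ψ (algebraMap D (D ⊗[R] B) (algebraMap R D a)) ∈ qt.map (algebraMap B L) := ha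
    rw [hψ] at h1
    have h2 : algebraMap R B a ∈ qt := by
      rw [← IsLocalization.comap_map_of_isPrime_disjoint q.primeCompl L (I := qt) inferInstance hdisj]
      exact h1
    have h3 : a ∈ (p0 : PrimeSpectrum R).asIdeal := by rw [← htP]; exact h2
    exact Ideal.mem_bot.2 (RingHom.mem_ker.1 h3)
  obtain ⟨σC⟩ := exists_section (hroots.of_isLocalization P.asIdeal.primeCompl D) q' q₀ hq₀le hq₀
  obtain ⟨a, ha, ⟨τ⟩⟩ := Groth.Agent.AbsClosure4.exists_algHom_away P.asIdeal
    ((σC.restrictScalars R).comp Algebra.TensorProduct.includeRight)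
  let j : Spec (.of (Localization.Away a)) ⟶ Spec R := Spec.map (CommRingCat.ofHom (algebraMap R (Localization.Away a)))
  let l : Spec (.of (Localization.Away a)) ⟶ pullback k σ := Spec.map (CommRingCat.ofHom τ.toRingHom) ≫ hA.fromSpec
  have hl : l ≫ pullback.fst k σ = j := by
    simp only [l, j, Category.assoc, ← hφ, ← Spec.map_comp]
    congr 1
    ext x
    exact τ.commutes x
  refine ⟨_, j, l ≫ pullback.snd k σ ≫ r₀, IsOpenImmersion.of_isLocalization a, ?_, ?_⟩
  · change P ∈ Set.range (PrimeSpectrum.comap (algebraMap R (Localization.Away a)))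
    rw [PrimeSpectrum.localization_away_comap_range (Localization.Away a) a]
    exact ha
  · simp only [Category.assoc, hr₀]
    rw [← pullback.condition, reassoc_of% hl]

/-- A universally open surjective morphism of finite presentation has sections locally on a finite
surjective cover of the base. -/
theorem exists_finite {X S : Scheme.{u}} (f : X ⟶ S) [LocallyOfFinitePresentation f] [UniversallyOpen f]
    [Surjective f] [CompactSpace S] [QuasiSeparatedSpace S] :
    ∃ (S' : Scheme.{u}) (p : S' ⟶ S), Surjective p ∧ IsFinite p ∧ LocallyOfFinitePresentation p ∧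
      ∀ y : S', ∃ (V : S'.Opens) (h : (V : Scheme.{u}) ⟶ X), y ∈ V ∧ h ≫ f = V.ι ≫ p := by
  refine FinDom4.exists_finite_of_integral f (AbsClosure4.toBase S) fun t => ?_
  obtain ⟨U, P, rfl⟩ := AbsClosure4.exists_chart S t
  let k := AbsClosure4.chart S U ≫ AbsClosure4.toBase S
  obtain ⟨Z, σ, r₀, q, hσ1, hσ2, hr₀, hq, hopen⟩ := exists_quasiFinite_piece f (k P)
  haveI := hσ1
  haveI := hσ2
  obtain ⟨R', j, r, hj, ⟨x, hx⟩, hr⟩ := exists_lift_chart k σ f r₀ hr₀
    AbsClosure4.monicRoots_integralClosure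
    (fun Q _ => AbsClosure4.isDomain_atPrime_integralClosure Q) P q hq hopen
  refine ⟨(j ≫ AbsClosure4.chart S U).opensRange,
    (j ≫ AbsClosure4.chart S U).isoOpensRange.inv ≫ r,
    ⟨x, by rw [Scheme.Hom.comp_apply, hx]⟩, ?_⟩
  rw [Category.assoc, hr, ← Category.assoc j, ← Category.assoc, Scheme.Hom.isoOpensRange_inv_comp]

end Groth.Agent.UnivOpenSec5
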